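import Mathlib.RingTheory.FiniteType
import Mathlib.RingTheory.Noetherian.Basic
import Mathlib.RingTheory.Ideal.MinimalPrime.Noetherian
import Mathlib.RingTheory.Polynomial.Basic
import Mathlib.RingTheory.Ideal.Quotient.Operations
import Mathlib.Analysis.Complex.Basic
import Mathlib.Topology.Connected.Clopen

/-!
# Algebraic reduction for connectedness of complex points

For a `ℂ`-algebra `B` the set of `ℂ`-algebra homomorphisms `B →ₐ[ℂ] ℂ` carries the weak topology,
i.e. the topology induced from the product topology on `B → ℂ`.  `CONN` is the statement that this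
space is (pre)connected for `B` a domain of finite type over `ℂ`.  We deduce from `CONN` that for
`B` of finite type over `ℂ` every clopen subset of `B →ₐ[ℂ] ℂ` is Zariski closed.
-/

set_option autoImplicit false
open Topology

noncomputable section

namespace Groth.Agent.An.H868.AlgRed

/-- The evaluation map from `ℂ`-points of `B` to functions `B → ℂ`. -/
def evB (B : Type) [CommRing B] [Algebra ℂ B] (x : B →ₐ[ℂ] ℂ) : B → ℂ := fun b => x b

/-- The statement that the space of `ℂ`-points of a `ℂ`-domain of finite type is connected. -/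
def CONN : Prop := ∀ (A : Type) [CommRing A] [IsDomain A] [Algebra ℂ A] [Algebra.FiniteType ℂ A],
  IsPreconnected (Set.range fun (x : A →ₐ[ℂ] ℂ) => fun a : A => x a)

variable {B : Type} [CommRing B] [Algebra ℂ B]

/-- The points lying in the closed subset `V(I)`, seen in `B → ℂ`. -/
def ptsV (I : Ideal B) : Set (B → ℂ) :=
  (fun x : B →ₐ[ℂ] ℂ => fun b : B => x b) '' {x | ∀ b ∈ I, x b = 0}

/-- The points of `V(p)`, `p` a prime, form a preconnected set. -/
lemma isPreconnected_ptsV (h : CONN) [Algebra.FiniteType ℂ B] (p : Ideal B) [p.IsPrime] :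
    IsPreconnected (ptsV p) := by
  have hft : Algebra.FiniteType ℂ (B ⧸ p) :=
    Algebra.FiniteType.of_surjective (Ideal.Quotient.mkₐ ℂ p) (Ideal.Quotient.mkₐ_surjective ℂ p)
  have h1 := h (B ⧸ p)
  have h2 : Continuous (fun (φ : B ⧸ p → ℂ) (b : B) => φ (Ideal.Quotient.mkₐ ℂ p b)) := by
    fun_prop
  have h3 := h1.image _ h2.continuousOn
  have h4 : (fun (φ : B ⧸ p → ℂ) (b : B) => φ (Ideal.Quotient.mkₐ ℂ p b)) ''
      (Set.range fun (x : (B ⧸ p) →ₐ[ℂ] ℂ) => fun a : (B ⧸ p) => x a) = ptsV p := by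
    ext φ
    constructor
    · rintro ⟨_, ⟨x, rfl⟩, rfl⟩
      refine ⟨x.comp (Ideal.Quotient.mkₐ ℂ p), ?_, rfl⟩
      intro b hb
      change x (Ideal.Quotient.mk p b) = 0
      rw [Ideal.Quotient.eq_zero_iff_mem.2 hb, map_zero]
    · rintro ⟨x, hx, rfl⟩
      refine ⟨_, ⟨Ideal.Quotient.liftₐ p x hx, rfl⟩, ?_⟩
      funext b
      rfl
  rwa [h4] at h3

/-- **Reduction.** If `S` is a set of `ℂ`-points of `B` which is the trace of an open set `U` of
`B → ℂ` and whose complement is the trace of an open `U'`, then `S` is Zariski closed. -/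
theorem exists_ideal_of_clopen (h : CONN) [Algebra.FiniteType ℂ B] (S : Set (B →ₐ[ℂ] ℂ))
    (U U' : Set (B → ℂ)) (hU : IsOpen U) (hU' : IsOpen U')
    (hS : ∀ x : B →ₐ[ℂ] ℂ, x ∈ S ↔ (fun b => x b) ∈ U)
    (hS' : ∀ x : B →ₐ[ℂ] ℂ, x ∉ S ↔ (fun b => x b) ∈ U') :
    ∃ I : Ideal B, ∀ x : B →ₐ[ℂ] ℂ, x ∈ S ↔ ∀ b ∈ I, x b = 0 := by
  classical
  have hN : IsNoetherianRing B := Algebra.FiniteType.isNoetherianRing ℂ B
  have hfin : (minimalPrimes B).Finite := minimalPrimes.finite_of_isNoetherianRing B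
  -- each `V(p)` lies in `S` or in its complement
  have key : ∀ p ∈ minimalPrimes B, (∃ x ∈ S, ∀ b ∈ p, x b = 0) →
      ∀ x : B →ₐ[ℂ] ℂ, (∀ b ∈ p, x b = 0) → x ∈ S := by
    intro p hp ⟨x₀, hx₀, hx₀p⟩ x hx
    have : p.IsPrime := hp.1.1
    by_contra hxS
    have hc := isPreconnected_ptsV (B := B) h p
    obtain ⟨_, ⟨y, hy, rfl⟩, hyU, hyU'⟩ := hc U U' hU hU' (by
      rintro _ ⟨y, hy, rfl⟩
      by_cases hyS : y ∈ S
      · exact Or.inl ((hS y).1 hyS)
      · exact Or.inr ((hS' y).1 hyS))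
      ⟨_, ⟨x₀, hx₀p, rfl⟩, (hS x₀).1 hx₀⟩ ⟨_, ⟨x, hx, rfl⟩, (hS' x).1 hxS⟩
    exact (hS' y).2 hyU' ((hS y).2 hyU)
  let s : Finset (Ideal B) := hfin.toFinset.filter fun p => ∃ x ∈ S, ∀ b ∈ p, x b = 0
  refine ⟨s.inf id, fun x => ?_⟩
  have hker : (RingHom.ker (x : B →+* ℂ)).IsPrime := RingHom.ker_isPrime _
  constructor
  · intro hx b hb
    obtain ⟨p, hp, hpx⟩ := Ideal.exists_minimalPrimes_le
      (I := (⊥ : Ideal B)) (J := RingHom.ker (x : B →+* ℂ)) bot_le
    have hps : p ∈ s := by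
      simp only [s, Finset.mem_filter, Set.Finite.mem_toFinset]
      exact ⟨hp, x, hx, fun b hb => hpx hb⟩
    exact hpx (Finset.inf_le (f := id) hps hb)
  · intro hx
    have hle : s.inf id ≤ RingHom.ker (x : B →+* ℂ) := fun b hb => hx b hb
    obtain ⟨p, hp, hpx⟩ := (hker.inf_le' (s := s) (f := id)).1 hle
    simp only [s, Finset.mem_filter, Set.Finite.mem_toFinset] at hp
    exact key p hp.1 hp.2 x fun b hb => hpx hb

end Groth.Agent.An.H868.AlgRed
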