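import Groth.Agent.An.H863.PtsBasic
import Groth.Agent.An.H868.AlgRed
import Mathlib.AlgebraicGeometry.Morphisms.FiniteType

/-!
# Complex points through an affine chart

For an affine open `U` of a scheme `X` over `ℂ`, the `ℂ`-algebra homomorphisms `Γ(X, U) → ℂ` give
complex points of `X` lying in `U`; this map is continuous for the weak topology.
-/

set_option autoImplicit false
open CategoryTheory AlgebraicGeometry Topology TopologicalSpace Opposite

noncomputable section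

namespace Groth.Agent.An.H868.Chart

open Groth.Agent.An.H863.PtsBasic

variable {X : Scheme.{0}} [X.Over An.SC]

/-- The `ℂ`-algebra structure on sections over an open. -/
@[reducible] def algU (U : X.Opens) : Algebra ℂ Γ(X, U) := (strU U).toAlgebra

/-- The point of `X` defined by a `ℂ`-algebra homomorphism `Γ(X, U) → ℂ`. -/
def ofChart {U : X.Opens} (hU : IsAffineOpen U) (χ : Γ(X, U) →+* ℂ)
    (hχ : ∀ c, χ (strU U c) = c) : An.Pts X :=
  ⟨Spec.map (CommRingCat.ofHom χ) ≫ hU.fromSpec, by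
    have h1 : hU.fromSpec ≫ (X ↘ An.SC) =
        Spec.map ((X ↘ An.SC).appLE ⊤ U le_top) ≫ (isAffineOpen_top An.SC).fromSpec :=
      (IsAffineOpen.SpecMap_appLE_fromSpec (X ↘ An.SC) (isAffineOpen_top An.SC) hU le_top).symm
    have h2 : (isAffineOpen_top An.SC).fromSpec =
        Spec.map ((Scheme.ΓSpecIso (CommRingCat.of ℂ)).inv) := by
      rw [IsAffineOpen.fromSpec_top]
      exact (Scheme.isoSpec_Spec_inv _)
    rw [Category.assoc, h1, h2, ← Spec.map_comp, ← Spec.map_comp, ← Spec.map_id]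
    congr 1
    ext c
    exact hχ c⟩

lemma pt_ofChart {U : X.Opens} (hU : IsAffineOpen U) (χ : Γ(X, U) →+* ℂ)
    (hχ : ∀ c, χ (strU U c) = c) : (ofChart hU χ hχ).pt ∈ U := by
  have : (ofChart hU χ hχ).pt ∈ Set.range hU.fromSpec :=
    ⟨(Spec.map (CommRingCat.ofHom χ)) An.cpt, by
      rw [← Scheme.Hom.comp_apply]; rfl⟩
  rwa [hU.range_fromSpec] at this

lemma ev_ofChart {U : X.Opens} (hU : IsAffineOpen U) (χ : Γ(X, U) →+* ℂ)
    (hχ : ∀ c, χ (strU U c) = c) (h : (ofChart hU χ hχ).pt ∈ U) (f : Γ(X, U)) :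
    (ofChart hU χ hχ).ev U h f = χ f := by
  unfold An.Pts.ev
  have key : (ofChart hU χ hχ).1.appLE U ⊤ (An.Pts.top_le_preimage _ h) ≫
      (Scheme.ΓSpecIso (CommRingCat.of ℂ)).hom = CommRingCat.ofHom χ := by
    change (Spec.map (CommRingCat.ofHom χ) ≫ hU.fromSpec).appLE U ⊤ _ ≫ _ = _
    rw [← Scheme.Hom.appLE_comp_appLE _ _ U ⊤ ⊤ (by rw [hU.fromSpec_preimage_self]) le_top]
    rw [Scheme.Hom.appLE, hU.fromSpec_app_self]
    have h3 : (Spec.map (CommRingCat.ofHom χ)).appLE ⊤ ⊤ le_top =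
        (Spec.map (CommRingCat.ofHom χ)).appTop := by
      simp [Scheme.Hom.appLE, Scheme.Hom.appTop]
    have h4 := Scheme.ΓSpecIso_naturality (CommRingCat.ofHom χ)
    simp only [Category.assoc, Scheme.Hom.map_appLE]
    rw [h3, h4]
    exact Iso.inv_hom_id_assoc _ _
  exact ConcreteCategory.congr_hom key f

/-- Continuity criterion for maps into the complex points of an affine open. -/
theorem continuous_of_chart {T : Type*} [TopologicalSpace T] {U : X.Opens} (hU : IsAffineOpen U)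
    (φ : T → An.Pts X) (hφ : ∀ t, (φ t).pt ∈ U)
    (hc : ∀ f : Γ(X, U), Continuous fun t => (φ t).ev U (hφ t) f) : Continuous φ := by
  refine continuous_generateFrom_iff.2 ?_
  rintro _ ⟨V, f, W, hW, rfl⟩
  refine isOpen_iff_forall_mem_open.2 fun t₀ ht₀ => ?_
  obtain ⟨hV, hf⟩ := ht₀
  obtain ⟨g, hgV, hg⟩ := hU.exists_basicOpen_le ⟨(φ t₀).pt, hV⟩ (hφ t₀)
  have hloc := hU.isLocalization_basicOpen g
  obtain ⟨⟨a, ⟨_, n, rfl⟩⟩, ha⟩ := IsLocalization.surj (Submonoid.powers g)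
    (X.presheaf.map (homOfLE hgV).op f)
  have hgU : X.basicOpen g ≤ U := X.basicOpen_le g
  -- the value of `f` in terms of `a` and `g`
  have key : ∀ t (htg : (φ t).pt ∈ X.basicOpen g),
      (φ t).ev V (hgV htg) f * ((φ t).ev U (hφ t) g) ^ n = (φ t).ev U (hφ t) a := by
    intro t htg
    have h1 := congrArg ((φ t).ev (X.basicOpen g) htg) ha
    have h2 : (φ t).ev (X.basicOpen g) htg (algebraMap Γ(X, U) Γ(X, X.basicOpen g) a) =
        (φ t).ev U (hφ t) a := ev_res (φ t) hgU htg a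
    have h3 : (φ t).ev (X.basicOpen g) htg (algebraMap Γ(X, U) Γ(X, X.basicOpen g) (g ^ n)) =
        (φ t).ev U (hφ t) (g ^ n) := ev_res (φ t) hgU htg _
    rw [ev_mul, h2] at h1
    rw [← h1, h3, ev_pow, ev_res (φ t) hgV htg f]
  refine ⟨{t | (φ t).ev U (hφ t) g ≠ 0} ∩
    (fun t => (φ t).ev U (hφ t) a / ((φ t).ev U (hφ t) g) ^ n) ⁻¹' W, ?_, ?_, ?_⟩
  · rintro t ⟨ht1, ht2⟩
    have htg : (φ t).pt ∈ X.basicOpen g := (ev_ne_zero_iff (φ t) U (hφ t) g).1 ht1
    refine ⟨hgV htg, ?_⟩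
    have h5 := key t htg
    have h6 : (φ t).ev V (hgV htg) f = (φ t).ev U (hφ t) a / ((φ t).ev U (hφ t) g) ^ n := by
      rw [← h5, mul_div_cancel_right₀ _ (pow_ne_zero n ht1)]
    rw [h6]
    exact ht2
  · have ho : IsOpen {t | (φ t).ev U (hφ t) g ≠ 0} := isOpen_ne.preimage (hc g)
    refine ContinuousOn.isOpen_inter_preimage ?_ ho hW
    exact (hc a).continuousOn.div ((hc g).pow n).continuousOn fun t ht => pow_ne_zero n ht
  · have ht1 : (φ t₀).ev U (hφ t₀) g ≠ 0 := (ev_ne_zero_iff (φ t₀) U (hφ t₀) g).2 hg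
    refine ⟨ht1, ?_⟩
    have h5 := key t₀ hg
    have h6 : (φ t₀).ev V (hgV hg) f =
        (φ t₀).ev U (hφ t₀) a / ((φ t₀).ev U (hφ t₀) g) ^ n := by
      rw [← h5, mul_div_cancel_right₀ _ (pow_ne_zero n ht1)]
    change (φ t₀).ev U (hφ t₀) a / ((φ t₀).ev U (hφ t₀) g) ^ n ∈ W
    rw [← h6]
    exact hf

/-- The points coming from algebra homomorphisms depend continuously on them. -/
theorem continuous_ofChart {T : Type*} [TopologicalSpace T] {U : X.Opens} (hU : IsAffineOpen U)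
    (χ : T → (Γ(X, U) →+* ℂ)) (hχ : ∀ t c, χ t (strU U c) = c)
    (hc : ∀ f : Γ(X, U), Continuous fun t => χ t f) :
    Continuous fun t => ofChart hU (χ t) (hχ t) := by
  refine continuous_of_chart hU _ (fun t => pt_ofChart hU (χ t) (hχ t)) fun f => ?_
  simpa only [ev_ofChart] using hc f

/-- Two complex points of an affine open with the same values are equal. -/
lemma ext_of_ev {U : X.Opens} (hU : IsAffineOpen U) {x y : An.Pts X} (hx : x.pt ∈ U)
    (hy : y.pt ∈ U) (h : ∀ f : Γ(X, U), x.ev U hx f = y.ev U hy f) : x = y := by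
  apply pt_injective
  refine (inseparable_iff_forall_isOpen.2 fun W hW => ?_).eq
  constructor
  · intro hxW
    obtain ⟨g, hgV, hg⟩ := hU.exists_basicOpen_le ⟨x.pt, (show x.pt ∈ (⟨W, hW⟩ : X.Opens) from hxW)⟩ hx
    refine hgV ((ev_ne_zero_iff y U hy g).1 ?_)
    rw [← h]
    exact (ev_ne_zero_iff x U hx g).2 hg
  · intro hyW
    obtain ⟨g, hgV, hg⟩ := hU.exists_basicOpen_le ⟨y.pt, (show y.pt ∈ (⟨W, hW⟩ : X.Opens) from hyW)⟩ hy
    refine hgV ((ev_ne_zero_iff x U hx g).1 ?_)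
    rw [h]
    exact (ev_ne_zero_iff y U hy g).2 hg

/-- Every complex point in `U` comes from an algebra homomorphism. -/
lemma ofChart_evHom {U : X.Opens} (hU : IsAffineOpen U) (x : An.Pts X) (h : x.pt ∈ U) :
    ofChart hU (evHom x U h) (fun c => ev_strU x U h c) = x := by
  refine ext_of_ev hU (pt_ofChart hU _ _) h fun f => ?_
  rw [ev_ofChart]
  rfl

/-- The sections over an affine open of a scheme locally of finite type over `ℂ` form a
`ℂ`-algebra of finite type. -/
lemma finiteType_algU [LocallyOfFiniteType (X ↘ An.SC)] {U : X.Opens} (hU : IsAffineOpen U) :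
    @Algebra.FiniteType ℂ Γ(X, U) _ _ (algU U) := by
  have h1 := (X ↘ An.SC).finiteType_appLE (isAffineOpen_top An.SC) hU le_top
  have h2 : ((Scheme.ΓSpecIso (CommRingCat.of ℂ)).inv.hom).FiniteType :=
    RingHom.FiniteType.of_surjective _
      (ConcreteCategory.bijective_of_isIso (Scheme.ΓSpecIso (CommRingCat.of ℂ)).inv).2
  have h3 := h1.comp h2
  have h4 : ((X ↘ An.SC).appLE ⊤ U le_top).hom.comp (Scheme.ΓSpecIso (CommRingCat.of ℂ)).inv.hom =
      strU U := rfl
  rw [h4] at h3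
  exact h3

end Groth.Agent.An.H868.Chart
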