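import Groth.Agent.An.H868.Chart

/-!
# Clopen subsets of the space of complex points

Assuming `CONN` (the space of complex points of an integral affine scheme of finite type over `ℂ`
is connected), every clopen subset of `X(ℂ)`, `X` locally of finite type over `ℂ`, is the trace of
a (unique) clopen subset of `X`.
-/

set_option autoImplicit false
open CategoryTheory AlgebraicGeometry Topology TopologicalSpace Opposite

noncomputable section

namespace Groth.Agent.An.H868.Clopen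

open Groth.Agent.An.H863.PtsBasic Groth.Agent.An.H868.AlgRed Groth.Agent.An.H868.Chart

variable {X : Scheme.{0}} [X.Over An.SC]

/-- On an affine open `U`, the trace of a clopen subset of `X(ℂ)` is Zariski open in `U(ℂ)`. -/
theorem exists_opens_affine (hC : CONN) [LocallyOfFiniteType (X ↘ An.SC)] {S : Set (An.Pts X)}
    (hS : IsClopen S) {U : X.Opens} (hU : IsAffineOpen U) :
    ∃ W : X.Opens, W ≤ U ∧ ∀ x : An.Pts X, x.pt ∈ U → (x ∈ S ↔ x.pt ∈ W) := by
  letI : Algebra ℂ Γ(X, U) := algU U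
  haveI : Algebra.FiniteType ℂ Γ(X, U) := finiteType_algU hU
  have hcomm : ∀ (χ : Γ(X, U) →ₐ[ℂ] ℂ) (c : ℂ), (χ : Γ(X, U) →+* ℂ) (strU U c) = c :=
    fun χ c => χ.commutes c
  -- the topology on algebra homomorphisms
  letI : TopologicalSpace (Γ(X, U) →ₐ[ℂ] ℂ) :=
    TopologicalSpace.induced (fun χ => fun b : Γ(X, U) => χ b) inferInstance
  let Φ : (Γ(X, U) →ₐ[ℂ] ℂ) → An.Pts X := fun χ => ofChart hU (χ : Γ(X, U) →+* ℂ) (hcomm χ)
  have hΦ : Continuous Φ := by
    refine continuous_ofChart hU (fun χ : Γ(X, U) →ₐ[ℂ] ℂ => (χ : Γ(X, U) →+* ℂ)) hcomm fun f => ?_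
    have h1 : Continuous (fun χ : Γ(X, U) →ₐ[ℂ] ℂ => fun b : Γ(X, U) => χ b) :=
      continuous_induced_dom
    exact (continuous_apply f).comp h1
  obtain ⟨V, hV, hV'⟩ := isOpen_induced_iff.1 (hS.2.preimage hΦ)
  obtain ⟨V', hV1, hV1'⟩ := isOpen_induced_iff.1 (hS.compl.2.preimage hΦ)
  obtain ⟨I, hI⟩ := exists_ideal_of_clopen hC (Φ ⁻¹' Sᶜ) V' V hV1 hV
    (fun x => by rw [← hV1']; rfl) (fun x => by
      have : x ∉ Φ ⁻¹' Sᶜ ↔ x ∈ Φ ⁻¹' S := by simp
      rw [this, ← hV']; rfl)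
  refine ⟨⨆ f : I, X.basicOpen f.1, iSup_le fun f => X.basicOpen_le _, fun x hx => ?_⟩
  let χ : Γ(X, U) →ₐ[ℂ] ℂ := { evHom x U hx with commutes' := fun c => ev_strU x U hx c }
  have h1 : Φ χ = x := ofChart_evHom hU x hx
  have h2 := hI χ
  have h3 : χ ∈ Φ ⁻¹' Sᶜ ↔ x ∉ S := by
    change Φ χ ∉ S ↔ x ∉ S
    rw [h1]
  rw [h3] at h2
  have h4 : x ∈ S ↔ ∃ b ∈ I, χ b ≠ 0 := by
    rw [← not_iff_not, h2]
    push Not
    rfl
  rw [h4, Opens.mem_iSup]
  constructor
  · rintro ⟨b, hb, hne⟩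
    exact ⟨⟨b, hb⟩, (ev_ne_zero_iff x U hx b).1 hne⟩
  · rintro ⟨⟨b, hb⟩, hmem⟩
    exact ⟨b, hb, (ev_ne_zero_iff x U hx b).2 hmem⟩

/-- Every clopen subset of `X(ℂ)` is Zariski open. -/
theorem exists_opens (hC : CONN) [LocallyOfFiniteType (X ↘ An.SC)] {S : Set (An.Pts X)}
    (hS : IsClopen S) : ∃ W : X.Opens, S = An.Pts.pt ⁻¹' (W : Set X) := by
  choose W hWU hW using fun U : X.affineOpens => exists_opens_affine hC hS U.2
  refine ⟨⨆ U, W U, ?_⟩
  ext x
  rw [Set.mem_preimage, SetLike.mem_coe, Opens.mem_iSup]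
  constructor
  · intro hx
    obtain ⟨U, hU, hxU, -⟩ := exists_isAffineOpen_mem_and_subset (x := x.pt) (U := ⊤) trivial
    exact ⟨⟨U, hU⟩, (hW ⟨U, hU⟩ x hxU).1 hx⟩
  · rintro ⟨U, hU⟩
    exact (hW U x (hWU U hU)).2 hU

/-- Every clopen subset of `X(ℂ)` is the trace of a clopen subset of `X`. -/
theorem exists_isClopen (hC : CONN) [LocallyOfFiniteType (X ↘ An.SC)] {S : Set (An.Pts X)}
    (hS : IsClopen S) : ∃ W : Set X, IsClopen W ∧ S = An.Pts.pt ⁻¹' W := by
  obtain ⟨W, hW⟩ := exists_opens hC hS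
  obtain ⟨W', hW'⟩ := exists_opens hC hS.compl
  refine ⟨W, ⟨?_, W.2⟩, hW⟩
  have hcompl : (W : Set X)ᶜ = W' := by
    apply Set.Subset.antisymm
    · by_contra hne
      rw [Set.not_subset] at hne
      obtain ⟨p, hp, hp'⟩ := hne
      obtain ⟨x, hx, hx'⟩ := exists_pt_mem_of_isClosed (X := X)
        (Z := (W : Set X)ᶜ ∩ (W' : Set X)ᶜ) (W.2.isClosed_compl.inter W'.2.isClosed_compl)
        ⟨p, hp, hp'⟩
      have h1 : x ∉ S := by rw [hW]; exact hx
      have h2 : x ∉ Sᶜ := by rw [hW']; exact hx'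
      exact h2 h1
    · intro p hp hpW
      obtain ⟨x, hx, hx'⟩ := exists_pt_mem_of_isOpen (X := X)
        (Z := (W : Set X) ∩ (W' : Set X)) (W.2.inter W'.2) ⟨p, hpW, hp⟩
      have h1 : x ∈ S := by rw [hW]; exact hx
      have h2 : x ∈ Sᶜ := by rw [hW']; exact hx'
      exact h2 h1
  rw [← isOpen_compl_iff, hcompl]
  exact W'.2

/-- **S4191**, assuming `CONN`. -/
theorem connectedSpace_iff (hC : CONN) (X : Scheme.{0}) [X.Over An.SC]
    [LocallyOfFiniteType (X ↘ An.SC)] : ConnectedSpace ↥X ↔ ConnectedSpace (An.Pts X) := by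
  constructor
  · intro h
    have hne : Nonempty (An.Pts X) := (nonempty_iff X).1 h.toNonempty
    refine @ConnectedSpace.mk _ _ (preconnectedSpace_iff_clopen.2 fun S hS => ?_) hne
    obtain ⟨W, hW, rfl⟩ := exists_isClopen hC hS
    rcases isClopen_iff.1 hW with rfl | rfl
    · exact Or.inl rfl
    · exact Or.inr rfl
  · intro h
    have hne : Nonempty X := (nonempty_iff X).2 h.toNonempty
    refine @ConnectedSpace.mk _ _ (preconnectedSpace_iff_clopen.2 fun W hW => ?_) hne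
    rcases isClopen_iff.1 (hW.preimage (An.Pts.continuous_pt (X := X))) with h0 | h1
    · left
      by_contra hne
      obtain ⟨x, hx⟩ := exists_pt_mem_of_isOpen (X := X) hW.2 (Set.nonempty_iff_ne_empty.2 hne)
      exact (h0 ▸ (show x ∈ An.Pts.pt ⁻¹' W from hx) : x ∈ (∅ : Set (An.Pts X)))
    · right
      by_contra hne
      obtain ⟨x, hx⟩ := exists_pt_mem_of_isOpen (X := X) hW.compl.2
        (Set.nonempty_compl.2 hne)
      exact hx (h1 ▸ Set.mem_univ x : x ∈ An.Pts.pt ⁻¹' W)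

end Groth.Agent.An.H868.Clopen
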