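import Groth.Agent.An.H868.Growth1
import Mathlib.Algebra.MvPolynomial.Funext
import Mathlib.Algebra.MvPolynomial.Equiv
import Mathlib.LinearAlgebra.Lagrange
import Mathlib.Topology.Algebra.MvPolynomial

/-!
# The growth lemma in several variables

A continuous, separately holomorphic function of polynomial growth on the complement
`{z ∈ ℂⁿ | D(z) ≠ 0}` of a hypersurface is a polynomial.
-/

set_option autoImplicit false
open Topology Filter Set Function

noncomputable section

namespace Groth.Agent.An.H868.Growth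

open Groth.Agent.An.H868.Growth1

/-- A polynomial vanishing on a nonempty open subset of `ℂⁿ` is zero. -/
theorem eq_zero_of_isOpen {n : ℕ} {P : MvPolynomial (Fin n) ℂ} {O : Set (Fin n → ℂ)}
    (hO : IsOpen O) (hne : O.Nonempty) (h : ∀ z ∈ O, MvPolynomial.eval z P = 0) : P = 0 := by
  obtain ⟨z, hz⟩ := hne
  obtain ⟨ε, hε, hball⟩ := Metric.isOpen_iff.1 hO z hz
  refine MvPolynomial.funext_set (fun i => Metric.ball (z i) ε) (fun i => ?_) fun x hx => ?_
  · exact infinite_of_mem_nhds (z i) (Metric.ball_mem_nhds _ hε)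
  · rw [map_zero]
    refine h x (hball ?_)
    rw [ball_pi _ hε]
    exact hx

/-- The locus `{D ≠ 0}` is open. -/
lemma isOpen_nz {n : ℕ} (D : MvPolynomial (Fin n) ℂ) : IsOpen {z | MvPolynomial.eval z D ≠ 0} :=
  isOpen_ne.preimage (MvPolynomial.continuous_eval D)

/-- A continuous function on `{D ≠ 0}` which agrees with a polynomial on the smaller
locus `{D ≠ 0, E ≠ 0}` is equal to this polynomial on `{D ≠ 0}`. -/
theorem eq_of_eq_on_nz {n : ℕ} {D E Q : MvPolynomial (Fin n) ℂ} (hD : D ≠ 0) (hE : E ≠ 0)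
    {a : (Fin n → ℂ) → ℂ} (ha : ContinuousOn a {z | MvPolynomial.eval z D ≠ 0})
    (h : ∀ z, MvPolynomial.eval z D ≠ 0 → MvPolynomial.eval z E ≠ 0 →
      a z = MvPolynomial.eval z Q) (z : Fin n → ℂ) (hz : MvPolynomial.eval z D ≠ 0) :
    a z = MvPolynomial.eval z Q := by
  by_contra hne
  have hc : ContinuousOn (fun z => a z - MvPolynomial.eval z Q)
      {z | MvPolynomial.eval z D ≠ 0} := ha.sub (MvPolynomial.continuous_eval Q).continuousOn
  have hO : IsOpen ({z | MvPolynomial.eval z D ≠ 0} ∩
      (fun z => a z - MvPolynomial.eval z Q) ⁻¹' {0}ᶜ) :=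
    hc.isOpen_inter_preimage (isOpen_nz D) isOpen_compl_singleton
  have h0 : D * E = 0 := by
    refine eq_zero_of_isOpen hO ⟨z, hz, sub_ne_zero.2 hne⟩ ?_
    rintro y ⟨hy1, hy2⟩
    rw [map_mul]
    by_contra h3
    rw [mul_eq_zero, not_or] at h3
    exact hy2 (sub_eq_zero.2 (h y h3.1 h3.2))
  rcases mul_eq_zero.1 h0 with h | h
  · exact hD h
  · exact hE h

lemma norm_cons_le {n : ℕ} (w : ℂ) (z' : Fin n → ℂ) :
    1 + ‖(Fin.cons w z' : Fin (n + 1) → ℂ)‖ ≤ (1 + ‖w‖) * (1 + ‖z'‖) := by
  have h1 : ‖(Fin.cons w z' : Fin (n + 1) → ℂ)‖ ≤ ‖w‖ + ‖z'‖ := by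
    refine (pi_norm_le_iff_of_nonneg (by positivity)).2 fun i => ?_
    refine Fin.cases ?_ (fun j => ?_) i
    · simp
    · simpa using (norm_le_pi_norm z' j).trans (le_add_of_nonneg_left (norm_nonneg w))
  nlinarith [norm_nonneg w, norm_nonneg z', mul_nonneg (norm_nonneg w) (norm_nonneg z')]

/-- **Growth lemma.** -/
theorem exists_mvPolynomial : ∀ (n : ℕ) (D : MvPolynomial (Fin n) ℂ), D ≠ 0 →
    ∀ (a : (Fin n → ℂ) → ℂ), ContinuousOn a {z | MvPolynomial.eval z D ≠ 0} →
    (∀ z, MvPolynomial.eval z D ≠ 0 → ∀ i, DifferentiableAt ℂ (fun w => a (update z i w)) (z i)) →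
    ∀ (K : ℝ) (N : ℕ), (∀ z, MvPolynomial.eval z D ≠ 0 → ‖a z‖ ≤ K * (1 + ‖z‖) ^ N) →
    ∃ Q : MvPolynomial (Fin n) ℂ, ∀ z, MvPolynomial.eval z D ≠ 0 → a z = MvPolynomial.eval z Q := by
  intro n
  induction n with
  | zero =>
    intro D hD a ha hd K N hb
    refine ⟨MvPolynomial.C (a finZeroElim), fun z hz => ?_⟩
    rw [MvPolynomial.eval_C]
    congr 1
    exact Subsingleton.elim _ _
  | succ n ih =>
    intro D hD a ha hd K N hb
    classical
    set F := MvPolynomial.finSuccEquiv ℂ n D with hF
    have hF0 : F ≠ 0 := by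
      rw [hF, Ne, EmbeddingLike.map_eq_zero_iff]; exact hD
    -- the polynomial `D(w, ·)`
    let Dw : ℂ → MvPolynomial (Fin n) ℂ := fun w => Polynomial.eval (MvPolynomial.C w) F
    have hcons : ∀ w z', MvPolynomial.eval (Fin.cons w z' : Fin (n + 1) → ℂ) D =
        Polynomial.eval w (Polynomial.map (MvPolynomial.eval z') F) := fun w z' =>
      MvPolynomial.eval_eq_eval_mv_eval' z' w D
    have hDw : ∀ w z', MvPolynomial.eval z' (Dw w) =
        MvPolynomial.eval (Fin.cons w z' : Fin (n + 1) → ℂ) D := by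
      intro w z'
      rw [hcons, Polynomial.eval_map]
      have h1 := Polynomial.eval₂_at_apply (p := F) (MvPolynomial.eval z') (MvPolynomial.C w)
      rw [MvPolynomial.eval_C] at h1
      exact h1.symm
    -- nonnegative constant
    have hb' : ∀ z, MvPolynomial.eval z D ≠ 0 → ‖a z‖ ≤ |K| * (1 + ‖z‖) ^ N := fun z hz =>
      (hb z hz).trans (by gcongr; exact le_abs_self K)
    -- choose interpolation nodes
    have hfin : {w | Dw w = 0}.Finite := by
      have h1 : {x : MvPolynomial (Fin n) ℂ | F.IsRoot x}.Finite :=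
        Polynomial.finite_setOfPred_isRoot hF0
      exact h1.preimage ((MvPolynomial.C_injective (Fin n) ℂ).injOn)
    obtain ⟨s, hs, hcard⟩ := hfin.infinite_compl.exists_subset_card_eq (N + 1)
    have hs' : ∀ i ∈ s, Dw i ≠ 0 := fun i hi => hs hi
    -- induction hypothesis at the nodes
    have hQ : ∀ i ∈ s, ∃ Q : MvPolynomial (Fin n) ℂ, ∀ z', MvPolynomial.eval z' (Dw i) ≠ 0 →
        a (Fin.cons i z') = MvPolynomial.eval z' Q := by
      intro i hi
      have hcc : Continuous fun z' : Fin n → ℂ => (Fin.cons i z' : Fin (n + 1) → ℂ) := by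
        refine continuous_pi fun j => ?_
        refine Fin.cases ?_ (fun j => ?_) j
        · simpa using continuous_const
        · simpa using continuous_apply j
      refine ih (Dw i) (hs' i hi) (fun z' => a (Fin.cons i z')) ?_ ?_ (|K| * (1 + ‖i‖) ^ N) N ?_
      · exact ha.comp hcc.continuousOn fun z' hz' => by
          change MvPolynomial.eval _ D ≠ 0
          rw [← hDw]; exact hz'
      · intro z' hz' j
        have h1 := hd (Fin.cons i z') (by rw [← hDw]; exact hz') j.succ
        simpa only [Fin.cons_update, Fin.cons_succ] using h1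
      · intro z' hz'
        refine (hb' _ (by rw [← hDw]; exact hz')).trans ?_
        rw [mul_assoc, ← mul_pow]
        gcongr
        exact norm_cons_le i z'
    choose! Q hQ using hQ
    -- the product of all the polynomials at the nodes
    let E' : MvPolynomial (Fin n) ℂ := ∏ i ∈ s, Dw i
    have hE' : E' ≠ 0 := Finset.prod_ne_zero_iff.2 hs'
    have hEz : ∀ z', MvPolynomial.eval z' E' ≠ 0 → ∀ i ∈ s, MvPolynomial.eval z' (Dw i) ≠ 0 := by
      intro z' hz' i hi h0
      apply hz'
      rw [map_prod]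
      exact Finset.prod_eq_zero hi h0
    let E : MvPolynomial (Fin (n + 1)) ℂ := MvPolynomial.rename Fin.succ E'
    have hE : E ≠ 0 := by
      intro h0
      exact hE' (MvPolynomial.rename_injective _ (Fin.succ_injective n) (by rw [map_zero]; exact h0))
    have hren : ∀ (R : MvPolynomial (Fin n) ℂ) (w : ℂ) (z' : Fin n → ℂ),
        MvPolynomial.eval (Fin.cons w z' : Fin (n + 1) → ℂ) (MvPolynomial.rename Fin.succ R) =
          MvPolynomial.eval z' R := by
      intro R w z'
      rw [MvPolynomial.eval_rename]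
      rfl
    refine ⟨∑ i ∈ s, MvPolynomial.rename Fin.succ (Q i) *
      Polynomial.aeval (MvPolynomial.X 0) (Lagrange.basis s id i), fun z hz => ?_⟩
    refine eq_of_eq_on_nz hD hE ha ?_ z hz
    clear z hz
    intro z
    refine Fin.consCases (fun w z' => ?_) z
    intro hz hzE
    rw [hren] at hzE
    -- the one variable polynomial
    set P := Polynomial.map (MvPolynomial.eval z') F with hP
    have hP0 : P ≠ 0 := by
      intro h0
      rw [hcons, ← hP, h0, Polynomial.eval_zero] at hz
      exact hz rfl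
    have hSfin : {w | P.IsRoot w}.Finite := Polynomial.finite_setOfPred_isRoot hP0
    have hmem : ∀ w, w ∉ {w | P.IsRoot w} →
        MvPolynomial.eval (Fin.cons w z' : Fin (n + 1) → ℂ) D ≠ 0 := by
      intro w hw
      rw [hcons]
      exact hw
    obtain ⟨p, hp, hpa⟩ := exists_poly hSfin (a := fun w => a (Fin.cons w z'))
      (K := |K| * (1 + ‖z'‖) ^ N) (N := N) (by
        intro w hw
        have h1 := hd (Fin.cons w z') (hmem w hw) 0
        simpa only [Fin.update_cons_zero, Fin.cons_zero] using h1) (by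
        intro w hw
        refine (hb' _ (hmem w hw)).trans ?_
        rw [mul_assoc, ← mul_pow]
        gcongr
        rw [mul_comm]
        exact norm_cons_le w z')
    have hpi : p = Lagrange.interpolate s id fun i => p.eval (id i) :=
      Lagrange.eq_interpolate (injOn_id _) (by rw [hcard]; exact hp)
    have hw : w ∉ {w | P.IsRoot w} := by
      intro h0
      apply hz
      rw [hcons]
      exact h0
    have h2 : a (Fin.cons w z') = p.eval w := hpa w hw
    rw [h2, hpi, Lagrange.interpolate_apply, Polynomial.eval_finsetSum, map_sum]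
    refine Finset.sum_congr rfl fun i hi => ?_
    have h3 := hEz z' hzE i hi
    have h4 : a (Fin.cons i z') = p.eval i := hpa i (by
      intro h0
      apply h3
      rw [hDw, hcons]
      exact h0)
    rw [Polynomial.eval_mul, Polynomial.eval_C, map_mul, hren, ← hQ i hi z' h3, h4]
    congr 1
    rw [Polynomial.aeval_def, Polynomial.eval₂_eq_eval_map]
    rw [← Polynomial.eval₂_eq_eval_map, Polynomial.hom_eval₂]
    rw [MvPolynomial.eval_X, Fin.cons_zero]
    have h5 : (MvPolynomial.eval (Fin.cons w z' : Fin (n + 1) → ℂ)).comp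
        (algebraMap ℂ (MvPolynomial (Fin (n + 1)) ℂ)) = RingHom.id ℂ := by
      ext c
      simp
    rw [h5, Polynomial.eval₂_id]

end Groth.Agent.An.H868.Growth
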