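import Mathlib.Analysis.Complex.Liouville
import Mathlib.Analysis.Complex.RemovableSingularity
import Mathlib.Analysis.Complex.TaylorSeries
import Mathlib.Algebra.Polynomial.Eval.Degree
import Mathlib.Algebra.Polynomial.BigOperators

/-!
# Holomorphic functions of polynomial growth in one variable

An entire function with polynomial growth is a polynomial; a holomorphic function on the complement
of a finite subset of `ℂ` with polynomial growth is a polynomial.
-/

set_option autoImplicit false
open Topology Filter Set Function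

noncomputable section

namespace Groth.Agent.An.H868.Growth1

/-- The higher Taylor coefficients of an entire function of polynomial growth vanish. -/
lemma iteratedDeriv_eq_zero {f : ℂ → ℂ} (hf : Differentiable ℂ f) {K : ℝ} {N : ℕ}
    (h : ∀ z, ‖f z‖ ≤ K * (1 + ‖z‖) ^ N) {n : ℕ} (hn : N < n) : iteratedDeriv n f 0 = 0 := by
  have hK : 0 ≤ K := by simpa using (norm_nonneg _).trans (h 0)
  have h1 : ∀ R : ℝ, 1 ≤ R → ‖iteratedDeriv n f 0‖ ≤ (n.factorial * K * 2 ^ N) * R⁻¹ := by
    intro R hR
    have hR0 : 0 < R := by linarith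
    have h2 := Complex.norm_iteratedDeriv_le_of_forall_mem_sphere_norm_le (c := 0) (R := R)
      (C := K * (1 + R) ^ N) n hR0 hf.diffContOnCl (by
        intro z hz
        rw [mem_sphere_iff_norm, sub_zero] at hz
        rw [← hz]; exact h z)
    refine h2.trans ?_
    have h3 : (1 + R) ^ N ≤ 2 ^ N * R ^ N := by
      rw [← mul_pow]; exact pow_le_pow_left₀ (by positivity) (by linarith) N
    have h4 : R ^ N * R ≤ R ^ n := by
      rw [← pow_succ]; exact pow_le_pow_right₀ hR hn
    rw [div_le_iff₀ (by positivity)]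
    calc (n.factorial : ℝ) * (K * (1 + R) ^ N) ≤ n.factorial * (K * (2 ^ N * R ^ N)) := by gcongr
      _ = (n.factorial * K * 2 ^ N) * R⁻¹ * (R ^ N * R) := by field_simp
      _ ≤ (n.factorial * K * 2 ^ N) * R⁻¹ * R ^ n := by gcongr
  have h5 : Tendsto (fun R : ℝ => (n.factorial * K * 2 ^ N) * R⁻¹) atTop (𝓝 0) := by
    simpa using tendsto_inv_atTop_zero.const_mul (n.factorial * K * 2 ^ N : ℝ)
  have h6 : ‖iteratedDeriv n f 0‖ ≤ 0 :=
    ge_of_tendsto h5 (eventually_atTop.2 ⟨1, fun R hR => h1 R hR⟩)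
  simpa using h6

/-- An entire function of polynomial growth is a polynomial. -/
theorem exists_poly_of_entire {f : ℂ → ℂ} (hf : Differentiable ℂ f) {K : ℝ} {N : ℕ}
    (h : ∀ z, ‖f z‖ ≤ K * (1 + ‖z‖) ^ N) :
    ∃ p : Polynomial ℂ, p.degree < (N + 1 : ℕ) ∧ ∀ z, f z = p.eval z := by
  refine ⟨∑ n ∈ Finset.range (N + 1),
    Polynomial.C ((n.factorial : ℂ)⁻¹ * iteratedDeriv n f 0) * Polynomial.X ^ n, ?_, fun z => ?_⟩
  · refine lt_of_le_of_lt (Polynomial.degree_sum_le _ _) ?_
    rw [Finset.sup_lt_iff (by exact_mod_cast WithBot.bot_lt_coe _)]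
    intro n hn
    refine (Polynomial.degree_C_mul_X_pow_le _ _).trans_lt ?_
    exact_mod_cast Finset.mem_range.1 hn
  · rw [← Complex.taylorSeries_eq_of_entire' (c := 0) (z := z) hf,
      tsum_eq_sum (s := Finset.range (N + 1))]
    · simp [Polynomial.eval_finsetSum]
    · intro n hn
      rw [Finset.mem_range, not_lt] at hn
      rw [iteratedDeriv_eq_zero hf h (by omega)]
      simp

/-- Removable singularities: a function holomorphic off a finite set and locally bounded extends
to an entire function. -/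
theorem exists_entire (S : Finset ℂ) : ∀ (a : ℂ → ℂ),
    (∀ w ∉ S, DifferentiableAt ℂ a w) →
    (∀ s, ∃ U ∈ 𝓝 s, ∃ C : ℝ, ∀ w ∈ U, w ∉ S → ‖a w‖ ≤ C) →
    ∃ g : ℂ → ℂ, Differentiable ℂ g ∧ ∀ w ∉ S, g w = a w := by
  classical
  induction S using Finset.induction_on with
  | empty =>
    intro a ha _
    exact ⟨a, fun w => ha w (by simp), fun w _ => rfl⟩
  | insert s S hs ih =>
    intro a ha hb
    set a' : ℂ → ℂ := update a s (limUnder (𝓝[≠] s) a) with ha'
    have hne : ∀ w, w ≠ s → a' w = a w := fun w hw => update_of_ne hw _ _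
    have hSc : IsOpen ((S : Set ℂ)ᶜ) := S.finite_toSet.isClosed.isOpen_compl
    have hiSc : IsOpen (((insert s S : Finset ℂ) : Set ℂ)ᶜ) :=
      (insert s S).finite_toSet.isClosed.isOpen_compl
    have hd : ∀ w ∉ S, DifferentiableAt ℂ a' w := by
      intro w hw
      by_cases hws : w = s
      · subst hws
        obtain ⟨U, hU, C, hC⟩ := hb w
        have hU' : U ∩ (S : Set ℂ)ᶜ ∈ 𝓝 w := inter_mem hU (hSc.mem_nhds (by simpa using hs))
        have h1 := Complex.differentiableOn_update_limUnder_of_bddAbove (f := a) (c := w) hU' (by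
          intro z hz
          refine (ha z ?_).differentiableWithinAt
          rw [Finset.mem_insert]
          rintro (h | h)
          · exact hz.2 h
          · exact hz.1.2 h) ⟨C, by
            rintro _ ⟨z, hz, rfl⟩
            refine hC z hz.1.1 ?_
            rw [Finset.mem_insert]
            rintro (h | h)
            · exact hz.2 h
            · exact hz.1.2 h⟩
        exact h1.differentiableAt hU'
      · have hw' : w ∉ insert s S := by simp [hws, hw]
        have h2 : a' =ᶠ[𝓝 w] a := by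
          filter_upwards [isOpen_ne.mem_nhds hws] with z hz
          exact hne z hz
        exact (ha w hw').congr_of_eventuallyEq h2
    have hb' : ∀ t, ∃ U ∈ 𝓝 t, ∃ C : ℝ, ∀ w ∈ U, w ∉ S → ‖a' w‖ ≤ C := by
      intro t
      obtain ⟨U, hU, C, hC⟩ := hb t
      refine ⟨U, hU, max C ‖a' s‖, fun w hw hwS => ?_⟩
      by_cases hws : w = s
      · subst hws; exact le_max_right _ _
      · rw [hne w hws]
        exact (hC w hw (by simp [hws, hwS])).trans (le_max_left _ _)
    obtain ⟨g, hg, hg'⟩ := ih a' hd hb'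
    refine ⟨g, hg, fun w hw => ?_⟩
    rw [Finset.mem_insert, not_or] at hw
    rw [hg' w hw.2, hne w hw.1]

/-- A holomorphic function of polynomial growth on the complement of a finite subset of `ℂ` is
a polynomial. -/
theorem exists_poly {S : Set ℂ} (hS : S.Finite) {a : ℂ → ℂ}
    (ha : ∀ w ∉ S, DifferentiableAt ℂ a w) {K : ℝ} {N : ℕ}
    (hb : ∀ w ∉ S, ‖a w‖ ≤ K * (1 + ‖w‖) ^ N) :
    ∃ p : Polynomial ℂ, p.degree < (N + 1 : ℕ) ∧ ∀ w ∉ S, a w = p.eval w := by
  have hcont : Continuous fun w : ℂ => K * (1 + ‖w‖) ^ N := by fun_prop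
  obtain ⟨g, hg, hg'⟩ := exists_entire hS.toFinset a (by simpa using ha) (by
    intro s
    have h1 : ∀ᶠ w in 𝓝 s, K * (1 + ‖w‖) ^ N < K * (1 + ‖s‖) ^ N + 1 :=
      hcont.continuousAt.eventually_lt_const (by linarith)
    refine ⟨_, h1, K * (1 + ‖s‖) ^ N + 1, fun w hw hwS => ?_⟩
    exact (hb w (by simpa using hwS)).trans (le_of_lt hw))
  have hdense : Dense (Sᶜ : Set ℂ) := by
    have := (dense_univ (X := ℂ)).sdiff_finite hS
    rwa [← compl_eq_univ_sdiff] at this
  have hgb : ∀ w, ‖g w‖ ≤ K * (1 + ‖w‖) ^ N := by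
    have hcl : IsClosed {w | ‖g w‖ ≤ K * (1 + ‖w‖) ^ N} :=
      isClosed_le hg.continuous.norm hcont
    intro w
    have h2 : closure (Sᶜ : Set ℂ) ⊆ {w | ‖g w‖ ≤ K * (1 + ‖w‖) ^ N} :=
      closure_minimal (fun z hz => by
        change ‖g z‖ ≤ _
        rw [hg' z (by simpa using hz)]; exact hb z hz) hcl
    exact h2 (hdense w)
  obtain ⟨p, hp, hp'⟩ := exists_poly_of_entire hg hgb
  exact ⟨p, hp, fun w hw => by rw [← hp', hg' w (by simpa using hw)]⟩

end Groth.Agent.An.H868.Growth1
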